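import Cfsg.Agent.H6.Y332.Main
import Cfsg.Agent.H6.Y332.C7.Main
import Cfsg.Agent.H6.Fi22.Rep

set_option autoImplicit false
set_option maxRecDepth 100000

namespace Cfsg.H6.Fi22

theorem hR2 : Rels ev Y332.R2 := hR.mono (by decide +kernel)

theorem cover : Cover (gen ev Ws) ⊤ 3510 := hX ▸ Y332.C7.cover hev hR2

theorem ub : UB (⊤ : Subgroup Spor.Fi22) 64561751654400 := hX ▸ Y332.ubA' hev hR2

def I : List Ivl := [(1, 694, [2,1,3,2]), (694, 3510, [2])]

theorem act : ∃ φ : Spor.Fi22 →* Equiv.Perm ℕ, IsAct φ ev img 3510 10 := by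
  obtain ⟨ψ, hψ⟩ := lift rep.1 rep.2.1
  exact ⟨_, rep.2.2.comp ψ hψ⟩

/-- The permutation representation. -/
noncomputable def φ : Spor.Fi22 →* Equiv.Perm ℕ := act.choose

theorem hφ : IsAct φ ev img 3510 10 := act.choose_spec

theorem prim : Prim φ ev (gen ev Ws) 3510 I :=
  prim_sound hφ cover (List.forall_mem_cons.mpr ⟨iv0 hφ, (List.forall_mem_cons.mpr ⟨iv1 hφ, (by simp)⟩)⟩) (by decide +kernel)

theorem coatom : IsCoatom (gen ev Ws) :=
  prim.isCoatom hφ hX (C := [[], [0,3,0,3,2], [0]]) (by decide +kernel)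

def lW0 : List (List ℕ) := [[nat_lit 5], [nat_lit 6], [nat_lit 7], [nat_lit 8], [nat_lit 9], [nat_lit 4, nat_lit 3, nat_lit 5, nat_lit 4, nat_lit 8, nat_lit 4, nat_lit 5, nat_lit 3, nat_lit 4], [nat_lit 4, nat_lit 5, nat_lit 8, nat_lit 4, nat_lit 1, nat_lit 2, nat_lit 3, nat_lit 4, nat_lit 5, nat_lit 8, nat_lit 1, nat_lit 2, nat_lit 3, nat_lit 4, nat_lit 5, nat_lit 8, nat_lit 1, nat_lit 2, nat_lit 3, nat_lit 4, nat_lit 5, nat_lit 8, nat_lit 1, nat_lit 2, nat_lit 3, nat_lit 4, nat_lit 5, nat_lit 8, nat_lit 1, nat_lit 2, nat_lit 3, nat_lit 4, nat_lit 5, nat_lit 8, nat_lit 6, nat_lit 7, nat_lit 9, nat_lit 8, nat_lit 4, nat_lit 5, nat_lit 8, nat_lit 9, nat_lit 5, nat_lit 4, nat_lit 8, nat_lit 7, nat_lit 6, nat_lit 5, nat_lit 4]]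

theorem l0 : lvlChk img 3510 10 [1,0] (11, lW0, unp 179 (nat_lit 0xce0400011e030001600500013b040000ec0300027505000295010002b2020002900200029001000290000002400500010f030001ed0100024000000274020002740000015d0300015d010001ea020001ea010001a1020001ea0000022d0300022d0200022d00000275010002a9040002a901000227060000eb010000a80300006f0100004301000044040000440100004400000028020000430000006d0400004f0200004f0100004f0000006d0300006d0200006d0100006d000000db050001d6010001d30300027301000273000002200400014d0400014d03000190020001d2040001d20300018e0400018e0300018e010001d200000220020002200100022000000154050001f3030001b902000170030001b9010002640300029a0400028f01000255020002040200020401000255000001bb020001bb000002030400020303000203020001b9000001550500012e000000da000001da0400015a0400015a0200015a0000019e0300019e000001da020001da0000019703000197010001540300015400000106020001060000010b0400010b0200010b0000015504000155030001550100015500000108020001080000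00d60300010503000105010000c1040000c1030000c101000105000000d6020000d60000012c0400012c0200012c00000097020000db030000db020000db010000db00000096040000960300009602000096010000d90000009405000065010000c40300005c01000054010000c0040000c003000086040000860300005f0400005f0300009404000094030000940100005f0000008602000086010000c0000000520600001b0400002f03000023050002630400026303000102050000be01000081030000810100005d0200005d0100005b0300001f0100003804000038030000380100003800000053020000810000005204000052020000520100005200000027050000420100002700000016020000160000000b01)) = true := by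
  decide +kernel

def lW1 : List (List ℕ) := [[nat_lit 6, nat_lit 5, nat_lit 4, nat_lit 8, nat_lit 9, nat_lit 1, nat_lit 2, nat_lit 3, nat_lit 4, nat_lit 5, nat_lit 8, nat_lit 1, nat_lit 2, nat_lit 3, nat_lit 4, nat_lit 5, nat_lit 8, nat_lit 1, nat_lit 2, nat_lit 3, nat_lit 4, nat_lit 5, nat_lit 8, nat_lit 1, nat_lit 2, nat_lit 3, nat_lit 4, nat_lit 5, nat_lit 8, nat_lit 1, nat_lit 2, nat_lit 3, nat_lit 4, nat_lit 5, nat_lit 8, nat_lit 6, nat_lit 5, nat_lit 4, nat_lit 3, nat_lit 8, nat_lit 9, nat_lit 1, nat_lit 2, nat_lit 3, nat_lit 4, nat_lit 5, nat_lit 8, nat_lit 1, nat_lit 2, nat_lit 3, nat_lit 4, nat_lit 5, nat_lit 8, nat_lit 1, nat_lit 2, nat_lit 3, nat_lit 4, nat_lit 5, nat_lit 8, nat_lit 1, nat_lit 2, nat_lit 3, nat_lit 4, nat_lit 5, nat_lit 8, nat_lit 1, nat_lit 2, nat_lit 3, nat_lit 4, nat_lit 5, nat_lit 8, nat_lit 4, nat_lit 8, nat_lit 9, nat_lit 5, nat_lit 4, nat_lit 8, nat_lit 6, nat_lit 5, nat_lit 4]]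

theorem l1 : lvlChk img 3510 10 [11,1,0] (106, lW1, unp 2 (nat_lit 0x29d0000006a00)) = true := by
  decide +kernel

def lW2 : List (List ℕ) := [[nat_lit 8], [nat_lit 9], [nat_lit 4, nat_lit 3, nat_lit 5, nat_lit 4, nat_lit 8, nat_lit 4, nat_lit 5, nat_lit 3, nat_lit 4], [nat_lit 6, nat_lit 5, nat_lit 4, nat_lit 3, nat_lit 7, nat_lit 6, nat_lit 5, nat_lit 4, nat_lit 8, nat_lit 4, nat_lit 5, nat_lit 6, nat_lit 7, nat_lit 3, nat_lit 4, nat_lit 5, nat_lit 6], [nat_lit 6, nat_lit 1, nat_lit 2, nat_lit 3, nat_lit 4, nat_lit 5, nat_lit 8, nat_lit 1, nat_lit 2, nat_lit 3, nat_lit 4, nat_lit 5, nat_lit 8, nat_lit 1, nat_lit 2, nat_lit 3, nat_lit 4, nat_lit 5, nat_lit 8, nat_lit 1, nat_lit 2, nat_lit 3, nat_lit 4, nat_lit 5, nat_lit 8, nat_lit 1, nat_lit 2, nat_lit 3, nat_lit 4, nat_lit 5, nat_lit 8, nat_lit 6, nat_lit 1, nat_lit 2, nat_lit 3, nat_lit 4, nat_lit 5, nat_lit 8, nat_lit 1, nat_lit 2, nat_lit 3, nat_lit 4, nat_lit 5, nat_lit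 8, nat_lit 1, nat_lit 2, nat_lit 3, nat_lit 4, nat_lit 5, nat_lit 8, nat_lit 1, nat_lit 2, nat_lit 3, nat_lit 4, nat_lit 5, nat_lit 8, nat_lit 1, nat_lit 2, nat_lit 3, nat_lit 4, nat_lit 5, nat_lit 8, nat_lit 6], [nat_lit 6, nat_lit 5, nat_lit 7, nat_lit 1, nat_lit 2, nat_lit 3, nat_lit 4, nat_lit 5, nat_lit 8, nat_lit 1, nat_lit 2, nat_lit 3, nat_lit 4, nat_lit 5, nat_lit 8, nat_lit 1, nat_lit 2, nat_lit 3, nat_lit 4, nat_lit 5, nat_lit 8, nat_lit 1, nat_lit 2, nat_lit 3, nat_lit 4, nat_lit 5, nat_lit 8, nat_lit 1, nat_lit 2, nat_lit 3, nat_lit 4, nat_lit 5, nat_lit 8, nat_lit 6, nat_lit 1, nat_lit 2, nat_lit 3, nat_lit 4, nat_lit 5, nat_lit 8, nat_lit 1, nat_lit 2, nat_lit 3, nat_lit 4, nat_lit 5, nat_lit 8, nat_lit 1, nat_lit 2, nat_lit 3, nat_lit 4, nat_lit 5, nat_lit 8, nat_lit 1, nat_lit 2, nat_lit 3, nat_lit 4, nat_lit 5, nat_lit 8, nat_lit 1, nat_lit 2, nat_lit 3, nat_lit 4, nat_lit 5, nat_lit 8, nat_lit 7, nat_lit 5,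 nat_lit 6]]

theorem l2 : lvlChk img 3510 10 [106,11,1,0] (14, lW2, unp 47 (nat_lit 0x1700100011f000000c4020000c4010000c4000000eb0300027201000272000000eb020000a8010000a8000000ec0400027501000275000000ec0200013b010000ec00000160030000ce0100011e00000160020001600100010f0000014d0500014d0100014d000002570200026401000257000000640300006401000064000000300200004e010000300000001b040002630100026300000102020000bd010001020000001b030000230100003d0000001b0200001b0000000e01)) = true := by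
  decide +kernel

def lW3 : List (List ℕ) := [[nat_lit 3], [nat_lit 5], [nat_lit 8], [nat_lit 6, nat_lit 5, nat_lit 7, nat_lit 1, nat_lit 2, nat_lit 3, nat_lit 4, nat_lit 5, nat_lit 8, nat_lit 1, nat_lit 2, nat_lit 3, nat_lit 4, nat_lit 5, nat_lit 8, nat_lit 1, nat_lit 2, nat_lit 3, nat_lit 4, nat_lit 5, nat_lit 8, nat_lit 1, nat_lit 2, nat_lit 3, nat_lit 4, nat_lit 5, nat_lit 8, nat_lit 1, nat_lit 2, nat_lit 3, nat_lit 4, nat_lit 5, nat_lit 8, nat_lit 6, nat_lit 1, nat_lit 2, nat_lit 3, nat_lit 4, nat_lit 5, nat_lit 8, nat_lit 1, nat_lit 2, nat_lit 3, nat_lit 4, nat_lit 5, nat_lit 8, nat_lit 1, nat_lit 2, nat_lit 3, nat_lit 4, nat_lit 5, nat_lit 8, nat_lit 1, nat_lit 2, nat_lit 3, nat_lit 4, nat_lit 5, nat_lit 8, nat_lit 1, nat_lit 2, nat_lit 3, nat_lit 4, nat_lit 5, nat_lit 8, nat_lit 7, nat_lit 5, nat_lit 6], [nat_lit 9, nat_lit 8, nat_lit 4, nat_lit 3, nat_lit 5, nat_lit 4, nat_lit 8, nat_lit 4, nat_lit 5, nat_lit 3, nat_lit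 4, nat_lit 9, nat_lit 6, nat_lit 5, nat_lit 7, nat_lit 1, nat_lit 2, nat_lit 3, nat_lit 4, nat_lit 5, nat_lit 8, nat_lit 1, nat_lit 2, nat_lit 3, nat_lit 4, nat_lit 5, nat_lit 8, nat_lit 1, nat_lit 2, nat_lit 3, nat_lit 4, nat_lit 5, nat_lit 8, nat_lit 1, nat_lit 2, nat_lit 3, nat_lit 4, nat_lit 5, nat_lit 8, nat_lit 1, nat_lit 2, nat_lit 3, nat_lit 4, nat_lit 5, nat_lit 8, nat_lit 6, nat_lit 1, nat_lit 2, nat_lit 3, nat_lit 4, nat_lit 5, nat_lit 8, nat_lit 1, nat_lit 2, nat_lit 3, nat_lit 4, nat_lit 5, nat_lit 8, nat_lit 1, nat_lit 2, nat_lit 3, nat_lit 4, nat_lit 5, nat_lit 8, nat_lit 1, nat_lit 2, nat_lit 3, nat_lit 4, nat_lit 5, nat_lit 8, nat_lit 1, nat_lit 2, nat_lit 3, nat_lit 4, nat_lit 5, nat_lit 8, nat_lit 7, nat_lit 5, nat_lit 6, nat_lit 9, nat_lit 4, nat_lit 3, nat_lit 5, nat_lit 4, nat_lit 8, nat_lit 4, nat_lit 5, nat_lit 3, nat_lit 4, nat_lit 8, nat_lit 9]]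

theorem l3 : lvlChk img 3510 10 [14,106,11,1,0] (2, lW3, unp 31 (nat_lit 0x29c0200026b0000021e0100021e000001d1020001d1010001d100000253030002470200028e01000253010002530000028c0200028c010002460000000204000074020000580000005601000056000000350200003501000035000000020300000d01000004020000060200000400000002020000020100000200)) = true := by
  decide +kernel

def lW4 : List (List ℕ) := [[nat_lit 7], [nat_lit 4, nat_lit 3, nat_lit 5, nat_lit 4, nat_lit 8, nat_lit 4, nat_lit 5, nat_lit 3, nat_lit 4, nat_lit 8, nat_lit 5, nat_lit 3], [nat_lit 6, nat_lit 1, nat_lit 2, nat_lit 3, nat_lit 4, nat_lit 5, nat_lit 8, nat_lit 1, nat_lit 2, nat_lit 3, nat_lit 4, nat_lit 5, nat_lit 8, nat_lit 1, nat_lit 2, nat_lit 3, nat_lit 4, nat_lit 5, nat_lit 8, nat_lit 1, nat_lit 2, nat_lit 3, nat_lit 4, nat_lit 5, nat_lit 8, nat_lit 1, nat_lit 2, nat_lit 3, nat_lit 4, nat_lit 5, nat_lit 8, nat_lit 6, nat_lit 1, nat_lit 2, nat_lit 3, nat_lit 4, nat_lit 5, nat_lit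 8, nat_lit 1, nat_lit 2, nat_lit 3, nat_lit 4, nat_lit 5, nat_lit 8, nat_lit 1, nat_lit 2, nat_lit 3, nat_lit 4, nat_lit 5, nat_lit 8, nat_lit 1, nat_lit 2, nat_lit 3, nat_lit 4, nat_lit 5, nat_lit 8, nat_lit 1, nat_lit 2, nat_lit 3, nat_lit 4, nat_lit 5, nat_lit 8, nat_lit 6]]

theorem l4 : lvlChk img 3510 10 [2,14,106,11,1,0] (8, lW4, unp 7 (nat_lit 0x2c00000012010000120000000802000018000000080100000800)) = true := by
  decide +kernel

def lW5 : List (List ℕ) := [[nat_lit 6, nat_lit 5, nat_lit 4, nat_lit 3, nat_lit 7, nat_lit 6, nat_lit 5, nat_lit 4, nat_lit 8, nat_lit 4, nat_lit 5, nat_lit 6, nat_lit 7, nat_lit 3, nat_lit 4, nat_lit 5, nat_lit 6, nat_lit 4, nat_lit 3, nat_lit 5, nat_lit 4, nat_lit 8, nat_lit 4, nat_lit 5, nat_lit 3, nat_lit 4, nat_lit 8, nat_lit 7, nat_lit 5, nat_lit 3]]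

theorem l5 : lvlChk img 3510 10 [8,2,14,106,11,1,0] (10, lW5, unp 1 (nat_lit 0xa00)) = true := by
  decide +kernel

def lW6 : List (List ℕ) := [[nat_lit 1]]

theorem l6 : lvlChk img 3510 10 [10,8,2,14,106,11,1,0] (694, lW6, unp 1 (nat_lit 0x2b600)) = true := by
  decide +kernel

theorem finite : Finite Spor.Fi22 := ub.top.1

def bs : List ℕ := [694,10,8,2,14,106,11,1,0]

theorem lb : LBn φ ⊤ 3510 bs 64561751654400 := by
  have := finite
  exact LBn.cast ((((((((prim.lb2 (e := I.head (by decide)) (List.head_mem _)).stepT hφ l0).stepT hφ l1).stepT hφ l2).stepT hφ l3).stepT hφ l4).stepT hφ l5).stepT hφ l6) (by decide +kernel)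

theorem main : Nat.card Spor.Fi22 = 64561751654400 ∧ fixS φ bs = ⊥ ∧ Oracle ev img 10 bs := by
  have := finite
  exact lb.oracle hφ ub.top.2

theorem normal (N : Subgroup Spor.Fi22) [N.Normal] (hN : N ≠ ⊥) :
    ∀ t ∈ ([[1], [2], [3], [4], [5], [6], [7], [8], [9]] : List (List ℕ)), evL ev t ∈ N := by
  have := finite
  exact prim.normal_contains hev coatom lb.2 main.2.1 main.2.2 (p := 13) (k := 1) (j := 1) (by norm_num)
    main.1 (x := [4,5,2,9,3,1,6,8]) (St := [([4,5,2,9,3,1,6,8], [], [5], 9, 2), ([5], [], [4], 3, 2), ([4], [], [3], 3, 2), ([3], [], [2], 3, 2), ([2], [], [1], 3, 2), ([5], [], [6], 3, 2), ([6], [], [7], 3, 2), ([4], [], [8], 3, 2), ([8], [], [9], 3, 2)]) (by decide +kernel) N hN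

theorem simple : IsSimpleGroup Spor.Fi22 := by
  have := prim.nontrivial
  exact isSimple_of_contains hX normal

end Cfsg.H6.Fi22
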